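import Groth.Agent.Resolve.K84.Iface
import Groth.Agent.Vanish.K660.Gen
import Groth.Agent.Lim8.K117.NormalIso
import Groth.Agent.Coh.K415.Birat

/-!
# Birationality of the normalised base change of a cover along a birational morphism

`isBir_of_isIso`: isomorphic function fields give an isomorphism over a nonempty open; `isBir_of_mono`: if
`Y ⟶ Z ×_B X` is a monomorphism at the generic point and `Z ⟶ B` is birational then `Y ⟶ X` is birational.
-/

set_option autoImplicit false
universe u

open CategoryTheory AlgebraicGeometry CategoryTheory.Limits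

namespace K124.Bir

open K84.Iface

theorem isBir_of_isIso {X Y : Scheme.{u}} [IsIntegral X] [IsIntegral Y] (f : X ⟶ Y) [IsSeparated f]
    [LocallyOfFiniteType f] (hgen : f (genericPoint X) = genericPoint Y)
    (hbir : IsIso (f.stalkMap (genericPoint X))) : IsBir f := by
  have hy : IsIntegrallyClosed (Y.presheaf.stalk (genericPoint Y)) :=
    inferInstanceAs (IsIntegrallyClosed Y.functionField)
  have hq : f.QuasiFiniteAt (genericPoint X) :=
    RingHom.QuasiFinite.of_finite (RingHom.Finite.of_surjective _
      (ConcreteCategory.bijective_of_isIso (f.stalkMap (genericPoint X))).2)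
  obtain ⟨U, hU, hiso⟩ := K117.NormalIso.exists_isIso f hgen hbir (genericPoint Y) hy (genericPoint X) hgen hq
  exact ⟨U, ⟨_, hU⟩, hiso⟩

theorem bijective_ff {X Y : Scheme.{u}} [IsIntegral X] [IsIntegral Y] (f : Y ⟶ X)
    (h : f (genericPoint Y) = genericPoint X) :
    Function.Bijective (K660.FF.ff f h) ↔ IsIso (f.stalkMap (genericPoint Y)) := by
  have h1 : IsIso (X.presheaf.stalkSpecializes (specializes_of_eq h)) := by
    have : Inseparable (f (genericPoint Y)) (genericPoint X) := Inseparable.of_eq h
    exact ⟨X.presheaf.stalkSpecializes (specializes_of_eq h.symm),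
      by rw [TopCat.Presheaf.stalkSpecializes_comp, TopCat.Presheaf.stalkSpecializes_refl],
      by rw [TopCat.Presheaf.stalkSpecializes_comp, TopCat.Presheaf.stalkSpecializes_refl]⟩
  constructor
  · intro hb
    have h2 : IsIso (X.presheaf.stalkSpecializes (specializes_of_eq h) ≫ f.stalkMap (genericPoint Y)) :=
      (ConcreteCategory.isIso_iff_bijective _).2 hb
    exact IsIso.of_isIso_comp_left (X.presheaf.stalkSpecializes (specializes_of_eq h)) _
  · intro hi
    exact (ConcreteCategory.isIso_iff_bijective
      (X.presheaf.stalkSpecializes (specializes_of_eq h) ≫ f.stalkMap (genericPoint Y))).1 inferInstance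

theorem isBir_of_mono {B X Y Z : Scheme.{u}} [IsIntegral B] [IsIntegral X] [IsIntegral Y] [IsIntegral Z]
    (t : Z ⟶ B) (q : X ⟶ B) (g : Y ⟶ Z) (h : Y ⟶ X) (w : g ≫ t = h ≫ q) (ht : IsBir t)
    (hq : q (genericPoint X) = genericPoint B)
    (hg : g (genericPoint Y) = genericPoint Z) (hh : h (genericPoint Y) = genericPoint X)
    (hm : Mono (Y.fromSpecStalk (genericPoint Y) ≫ pullback.lift g h w))
    [IsSeparated h] [LocallyOfFiniteType h] : IsBir h := by
  obtain ⟨W, hW, hiso⟩ := ht
  obtain ⟨ht1, ht2⟩ := K415.Birat.generic_of_isIso_restrict t W hW hiso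
  refine isBir_of_isIso h hh ((bijective_ff h hh).1 ⟨(K660.FF.ff h hh).injective, ?_⟩)
  have hF := K660.Gen.gen t q g h w hg hh hm (K660.FF.ff h hh).fieldRange ?_ (fun a => ⟨a, rfl⟩)
  · intro a
    have ha : a ∈ (K660.FF.ff h hh).fieldRange := by rw [hF]; trivial
    exact ha
  · intro a
    obtain ⟨a', rfl⟩ := ((bijective_ff t ht1).2 ht2).2 a
    have hgt : (g ≫ t) (genericPoint Y) = genericPoint B := by
      rw [Scheme.Hom.comp_apply, hg, ht1]
    have hhq : (h ≫ q) (genericPoint Y) = genericPoint B := by
      rw [Scheme.Hom.comp_apply, hh, hq]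
    rw [← K660.FF.ff_comp g t hg ht1 hgt, K660.FF.ff_congr w hgt hhq, K660.FF.ff_comp h q hh hq hhq]
    exact ⟨_, rfl⟩

end K124.Bir
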