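import Groth.Prelude.Def_CohB1
import Groth.Agent.EGA2.K31.ProjIso
import Groth.Agent.Ega2.H291.MapZero
import Mathlib.Algebra.MvPolynomial.Equiv
import Mathlib.RingTheory.MvPolynomial.Homogeneous
import Mathlib.AlgebraicGeometry.ProjectiveSpectrum.Functor

/-!
# Making a form monic by a linear change of coordinates

`exists_aut`: over an infinite field a nonzero form `F₀` in `n + 1` variables becomes, after a linear automorphism of
`P^n`, a form which is monic in `X 0`.
-/

set_option autoImplicit false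
universe u

open CategoryTheory AlgebraicGeometry MvPolynomial

namespace K124.Monic

section Alg

variable {K : Type u} [Field K] {n : ℕ}

theorem constantCoeff_eq_zero {σ : Type*} {p : MvPolynomial σ K} {j : ℕ} (hp : p.IsHomogeneous j) (hj : j ≠ 0) :
    constantCoeff p = 0 := by
  rw [constantCoeff_eq]
  exact hp.coeff_eq_zero (by simpa using hj.symm)

theorem eq_C_of_isHomogeneous_zero {σ : Type*} {p : MvPolynomial σ K} (hp : p.IsHomogeneous 0) :
    p = C (constantCoeff p) := by
  rw [constantCoeff_eq]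
  exact totalDegree_eq_zero_iff_eq_C.mp (Nat.le_zero.mp hp.totalDegree_le)

theorem natDegree_le {F : MvPolynomial (Fin (n + 1)) K} {d : ℕ} (hF : F.IsHomogeneous d) :
    (finSuccEquiv K n F).natDegree ≤ d := by
  rw [natDegree_finSuccEquiv]
  exact (degreeOf_le_totalDegree F 0).trans hF.totalDegree_le

/-- the coefficient of `X 0 ^ d` in a form of degree `d` -/
theorem coeff_top {F : MvPolynomial (Fin (n + 1)) K} {d : ℕ} (hF : F.IsHomogeneous d) :
    (finSuccEquiv K n F).coeff d = C (eval (Fin.cons 1 0 : Fin (n + 1) → K) F) := by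
  rw [eq_C_of_isHomogeneous_zero (hF.finSuccEquiv_coeff_isHomogeneous d 0 (add_zero d)), eval_eq_eval_mv_eval']
  congr 1
  have h1 : (Polynomial.map (eval (0 : Fin n → K)) (finSuccEquiv K n F)).natDegree < d + 1 :=
    Nat.lt_succ_of_le (Polynomial.natDegree_map_le.trans (natDegree_le hF))
  rw [Polynomial.eval_eq_sum_range' h1, Finset.sum_range_succ, Finset.sum_eq_zero, zero_add, one_pow, mul_one,
    Polynomial.coeff_map, eval_zero]
  intro i hi
  rw [Finset.mem_range] at hi
  rw [one_pow, mul_one, Polynomial.coeff_map, eval_zero]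
  exact constantCoeff_eq_zero (hF.finSuccEquiv_coeff_isHomogeneous i (d - i) (by omega)) (by omega)

/-- monic form from its value at `[1:0:…:0]` -/
theorem monic_of_eval {F : MvPolynomial (Fin (n + 1)) K} {d : ℕ} (hF : F.IsHomogeneous d)
    (h : eval (Fin.cons 1 0 : Fin (n + 1) → K) F = 1) :
    (finSuccEquiv K n F).Monic ∧ (finSuccEquiv K n F).natDegree = d := by
  have h1 := coeff_top hF
  rw [h, C_1] at h1
  have h2 : (finSuccEquiv K n F).natDegree = d :=
    (natDegree_le hF).antisymm (Polynomial.le_natDegree_of_ne_zero (by rw [h1]; exact one_ne_zero))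
  refine ⟨?_, h2⟩
  rw [Polynomial.Monic, Polynomial.leadingCoeff, h2, h1]

/-- the linear substitution `X 0 ↦ c X 0`, `X i ↦ X i + a i X 0` -/
noncomputable def lin (c : K) (a : Fin n → K) : Fin (n + 1) → MvPolynomial (Fin (n + 1)) K :=
  Fin.cases (C c * X 0) (fun i => X i.succ + C (a i) * X 0)

@[simp] theorem lin_zero (c : K) (a : Fin n → K) : lin c a 0 = C c * X 0 := rfl

@[simp] theorem lin_succ (c : K) (a : Fin n → K) (i : Fin n) : lin c a i.succ = X i.succ + C (a i) * X 0 := rfl

theorem lin_isHomogeneous (c : K) (a : Fin n → K) (i : Fin (n + 1)) : (lin c a i).IsHomogeneous 1 := by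
  induction i using Fin.cases with
  | zero => exact isHomogeneous_C_mul_X c 0
  | succ i => exact (isHomogeneous_X K i.succ).add (isHomogeneous_C_mul_X (a i) 0)

theorem comp_lin (c : K) (a : Fin n → K) (c' : K) (a' : Fin n → K) (h : c * c' = 1) (h' : ∀ i, a' i = - (c' * a i))
    (p : MvPolynomial (Fin (n + 1)) K) : aeval (lin c a) (aeval (lin c' a') p) = p := by
  have h1 : (aeval (lin c a)).comp (aeval (lin c' a')) = AlgHom.id K (MvPolynomial (Fin (n + 1)) K) := by
    apply MvPolynomial.algHom_ext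
    intro i
    rw [AlgHom.comp_apply, aeval_X, AlgHom.id_apply]
    induction i using Fin.cases with
    | zero =>
      rw [lin_zero, map_mul, aeval_X, lin_zero, algHom_C, algebraMap_eq, ← mul_assoc, ← C_mul, mul_comm c' c, h, C_1,
        one_mul]
    | succ i =>
      rw [lin_succ, map_add, map_mul, aeval_X, aeval_X, lin_zero, lin_succ, algHom_C, algebraMap_eq, h' i, ← mul_assoc,
        ← C_mul]
      have h2 : -(c' * a i) * c = - a i := by
        have : -(c' * a i) * c = - ((c * c') * a i) := by ring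
        rw [this, h, one_mul]
      rw [h2, C_neg]
      ring
  exact DFunLike.congr_fun h1 p

/-- the graded endomorphism of the polynomial ring -/
noncomputable def linG (c : K) (a : Fin n → K) : CohB1.polyGrading n K →+*ᵍ CohB1.polyGrading n K where
  toRingHom := (aeval (lin c a) : MvPolynomial (Fin (n + 1)) K →ₐ[K] _).toRingHom
  map_mem := by
    intro i x hx
    have := IsHomogeneous.aeval (S := K) (mem_homogeneousSubmodule _ _ |>.mp hx) (lin c a) (lin_isHomogeneous c a)
    rw [one_mul] at this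
    exact this

theorem linG_apply (c : K) (a : Fin n → K) (x : MvPolynomial (Fin (n + 1)) K) : linG c a x = aeval (lin c a) x := rfl

theorem linG_algebraMap (c : K) (a : Fin n → K) (r : K) : linG c a (algebraMap K _ r) = algebraMap K _ r := by
  rw [linG_apply, AlgHom.commutes]

theorem bijOn_linG {c : K} (hc : c ≠ 0) (a : Fin n → K) (i : ℕ) :
    Set.BijOn (linG c a) (CohB1.polyGrading n K i) (CohB1.polyGrading n K i) := by
  refine ⟨fun x hx => (linG c a).map_mem hx, ?_, ?_⟩
  · intro x _ y _ hxy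
    have h1 := comp_lin c⁻¹ (fun i => -(c⁻¹ * a i)) c a (inv_mul_cancel₀ hc)
      (fun i => by rw [mul_neg, neg_neg, ← mul_assoc, mul_inv_cancel₀ hc, one_mul])
    have h2 := h1 x
    rw [← linG_apply c a, hxy, linG_apply, h1 y] at h2
    exact h2.symm
  · intro y hy
    refine ⟨linG c⁻¹ (fun i => -(c⁻¹ * a i)) y, (linG _ _).map_mem hy, ?_⟩
    exact comp_lin c a c⁻¹ _ (mul_inv_cancel₀ hc) (fun _ => rfl) y

theorem irrelevant_le {c : K} (hc : c ≠ 0) (a : Fin n → K) : HomogeneousIdeal.irrelevant (CohB1.polyGrading n K) ≤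
    (HomogeneousIdeal.irrelevant (CohB1.polyGrading n K)).map (linG c a) := by
  apply (HomogeneousIdeal.irrelevant_le _).mpr
  intro i hi x hx
  obtain ⟨z, hz, rfl⟩ := (bijOn_linG hc a i).2.2 hx
  exact Ideal.mem_map_of_mem _ (HomogeneousIdeal.mem_irrelevant_of_mem _ hi hz)

/-- the linear automorphism of `P^n` -/
noncomputable def linP {c : K} (hc : c ≠ 0) (a : Fin n → K) : CohB1.ProjSpace n K ⟶ CohB1.ProjSpace n K :=
  Proj.map (linG c a) (irrelevant_le hc a)

instance isIso_linP {c : K} (hc : c ≠ 0) (a : Fin n → K) : IsIso (linP hc a) :=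
  K31.ProjIso.isIso_map_of_bijOn _ (fun i _ => bijOn_linG hc a i)

theorem linP_toSpec {c : K} (hc : c ≠ 0) (a : Fin n → K) :
    linP hc a ≫ CohB1.ProjSpace.toSpec n K = CohB1.ProjSpace.toSpec n K :=
  Groth.Agent.Ega2.H291.MapZero.map_toSpec (linG c a) (irrelevant_le hc a) (linG_algebraMap c a)

theorem eval_linG (c : K) (a : Fin n → K) (p : MvPolynomial (Fin (n + 1)) K) :
    eval (Fin.cons 1 0 : Fin (n + 1) → K) (linG c a p) = eval (Fin.cons c a : Fin (n + 1) → K) p := by
  have h1 : (aeval (Fin.cons 1 0 : Fin (n + 1) → K)).comp (aeval (lin c a)) =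
      (aeval (Fin.cons c a : Fin (n + 1) → K) : MvPolynomial (Fin (n + 1)) K →ₐ[K] K) := by
    apply MvPolynomial.algHom_ext
    intro i
    rw [AlgHom.comp_apply, aeval_X, aeval_X]
    induction i using Fin.cases with
    | zero => simp
    | succ i => simp
  have h2 := DFunLike.congr_fun h1 p
  rw [AlgHom.comp_apply] at h2
  exact h2

/-- Over an infinite field a nonzero form becomes monic in `X 0` after a linear automorphism. -/
theorem exists_aut [Infinite K] {F₀ : MvPolynomial (Fin (n + 1)) K} {d : ℕ} (hF : F₀.IsHomogeneous d) (h0 : F₀ ≠ 0) :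
    ∃ (τ : CohB1.ProjSpace n K ⟶ CohB1.ProjSpace n K) (F : MvPolynomial (Fin (n + 1)) K), IsIso τ ∧
      τ ≫ CohB1.ProjSpace.toSpec n K = CohB1.ProjSpace.toSpec n K ∧
      F.IsHomogeneous d ∧ (finSuccEquiv K n F).Monic ∧ (finSuccEquiv K n F).natDegree = d ∧
      τ ⁻¹ᵁ Proj.basicOpen (CohB1.polyGrading n K) F₀ = Proj.basicOpen (CohB1.polyGrading n K) F := by
  have h1 : (X 0 * F₀).IsHomogeneous (1 + d) := (isHomogeneous_X K 0).mul hF
  have h2 : X 0 * F₀ ≠ 0 := mul_ne_zero (X_ne_zero 0) h0
  obtain ⟨r, hr⟩ : ∃ r : Fin (n + 1) → K, eval r (X 0 * F₀) ≠ 0 := by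
    by_contra hcon
    push Not at hcon
    exact h2 (h1.eq_zero_of_forall_eval_eq_zero hcon)
  rw [map_mul, eval_X] at hr
  have hc : r 0 ≠ 0 := left_ne_zero_of_mul hr
  have hv : eval r F₀ ≠ 0 := right_ne_zero_of_mul hr
  have hr' : (Fin.cons (r 0) (fun i => r i.succ) : Fin (n + 1) → K) = r := Fin.cons_self_tail r
  let θ := linG (r 0) (fun i => r i.succ)
  have hθ : (θ F₀).IsHomogeneous d := (mem_homogeneousSubmodule _ _).mp (θ.map_mem ((mem_homogeneousSubmodule _ _).mpr hF))
  have hFh : (C (eval r F₀)⁻¹ * θ F₀).IsHomogeneous d := by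
    have := (isHomogeneous_C (Fin (n + 1)) (eval r F₀)⁻¹).mul hθ
    rwa [zero_add] at this
  have hev : eval (Fin.cons 1 0 : Fin (n + 1) → K) (C (eval r F₀)⁻¹ * θ F₀) = 1 := by
    rw [map_mul, eval_C, eval_linG, hr', inv_mul_cancel₀ hv]
  obtain ⟨hm, hdeg⟩ := monic_of_eval hFh hev
  refine ⟨linP hc (fun i => r i.succ), C (eval r F₀)⁻¹ * θ F₀, inferInstance, linP_toSpec hc _, hFh, hm, hdeg, ?_⟩
  rw [Proj.basicOpen_mul]
  have h3 : Proj.basicOpen (CohB1.polyGrading n K) (C (eval r F₀)⁻¹) = ⊤ := by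
    rw [eq_top_iff, ← Proj.basicOpen_one, ← (C_1 : (C (1 : K) : MvPolynomial (Fin (n + 1)) K) = 1),
      ← inv_mul_cancel₀ hv, C_mul, Proj.basicOpen_mul]
    exact inf_le_left
  rw [h3, top_inf_eq]
  exact Proj.map_preimage_basicOpen _ _ _

end Alg

end K124.Monic
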