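import Groth.Agent.Resolve.K124.Monic
import Groth.Prelude.Def_RelProj
import Groth.Agent.CohqB.ProjBC
import Groth.Agent.Variety.K426.LinProj
import Groth.Agent.An.H526.T3Scheme
import Groth.Agent.Lefpen.H717.ProjIrr
import Groth.Agent.Sga3C.DimTop

/-!
# Node (1) of the resolution project: finite covers of projective space étale off a monic form

`exists_cover`: `X` integral and H-projective over a field of characteristic zero, of dimension `n`, `Z ≠ X` closed: there
are a finite surjective `q : X ⟶ P^n` and a form `F`, monic in `X 0`, such that `q` is étale over `D(F)` and `q(Z) ⊆ V(F)`.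
-/

set_option autoImplicit false
universe u

open CategoryTheory AlgebraicGeometry MvPolynomial TopologicalSpace

namespace K124.Noeth

theorem eq_genericPoint_of_specializes {Z : Scheme.{u}} [IsIntegral Z] {z : Z} (h : z ⤳ genericPoint Z) :
    z = genericPoint Z :=
  (h.antisymm ((genericPoint_spec Z).specializes trivial)).eq

theorem map_genericPoint {X Y : Scheme.{u}} [IsIntegral X] [IsIntegral Y] (f : X ⟶ Y) [Surjective f] :
    f (genericPoint X) = genericPoint Y := by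
  obtain ⟨x, hx⟩ := f.surjective (genericPoint Y)
  apply eq_genericPoint_of_specializes
  rw [← hx]
  exact ((genericPoint_spec X).specializes trivial).map f.continuous

theorem genericPoint_notMem {X : Scheme.{u}} [IsIntegral X] {Z : Set X} (hZ : IsClosed Z) (hZ' : Z ≠ Set.univ) :
    genericPoint X ∉ Z := by
  intro h
  apply hZ'
  rw [← Set.univ_subset_iff, ← genericPoint_closure]
  exact hZ.closure_subset_iff.2 (by rintro _ rfl; exact h)

theorem genericPoint_notMem_image {X B : Scheme.{u}} [IsIntegral X] [IsIntegral B] (q : X ⟶ B) [IsFinite q]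
    [Surjective q] {Z : Set X} (hZ : IsClosed Z) (hZ' : Z ≠ Set.univ) : genericPoint B ∉ q '' Z := by
  rintro ⟨z, hz, hzB⟩
  have h1 := Groth.Agent.Sga3C.DimTop.eq_of_specializes_of_isIntegralHom q (genericPoint X) z
    ((genericPoint_spec X).specializes trivial) ((map_genericPoint q).trans hzB.symm)
  exact genericPoint_notMem hZ hZ' (h1 ▸ hz)

/-- A neighbourhood of a point of `P^n` contains the basic open of a form around it. -/
theorem exists_form {K : Type u} [Field K] {n : ℕ} (W : (CohB1.ProjSpace n K).Opens) (x : CohB1.ProjSpace n K)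
    (hx : x ∈ W) : ∃ (d : ℕ) (F : MvPolynomial (Fin (n + 1)) K), F.IsHomogeneous d ∧ F ≠ 0 ∧
      x ∈ Proj.basicOpen (CohB1.polyGrading n K) F ∧ Proj.basicOpen (CohB1.polyGrading n K) F ≤ W := by
  let y : ProjectiveSpectrum (CohB1.polyGrading n K) := x
  obtain ⟨_, ⟨f, rfl⟩, h1, h2⟩ := (ProjectiveSpectrum.isTopologicalBasis_basic_opens
    (CohB1.polyGrading n K)).exists_subset_of_mem_open (a := y) hx W.2
  have h3 : y ∈ (ProjectiveSpectrum.basicOpen (CohB1.polyGrading n K) f) := h1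
  rw [ProjectiveSpectrum.basicOpen_eq_union_of_projection, Opens.mem_iSup] at h3
  obtain ⟨i, hi⟩ := h3
  refine ⟨i, GradedRing.proj (CohB1.polyGrading n K) i f, ?_, ?_, hi, ?_⟩
  · rw [GradedRing.proj_apply]
    exact (mem_homogeneousSubmodule _ _).mp (SetLike.coe_mem _)
  · intro h0
    rw [h0] at hi
    exact hi (Submodule.zero_mem _)
  · intro z hz
    apply h2
    let z' : ProjectiveSpectrum (CohB1.polyGrading n K) := z
    change z' ∈ (ProjectiveSpectrum.basicOpen (CohB1.polyGrading n K) f)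
    rw [ProjectiveSpectrum.basicOpen_eq_union_of_projection, Opens.mem_iSup]
    exact ⟨i, hz⟩

/-- étaleness over an open is insensitive to automorphisms of the target -/
theorem etale_restrict_comp_inv {X B : Scheme.{u}} (q : X ⟶ B) (τ : B ⟶ B) [IsIso τ] (W : B.Opens) (V : B.Opens)
    (hV : V = τ ⁻¹ᵁ W) (h : Etale (q ∣_ W)) : Etale ((q ≫ inv τ) ∣_ V) := by
  subst hV
  have h1 : ((q ≫ inv τ) ∣_ (τ ⁻¹ᵁ W)) ≫ (τ ⁻¹ᵁ W).ι ≫ τ = ((q ≫ inv τ) ⁻¹ᵁ (τ ⁻¹ᵁ W)).ι ≫ q := by
    rw [morphismRestrict_ι_assoc]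
    simp
  have h2 : Etale (((q ≫ inv τ) ⁻¹ᵁ (τ ⁻¹ᵁ W)).ι ≫ q) := by
    have h3 : (q ≫ inv τ) ⁻¹ᵁ (τ ⁻¹ᵁ W) = q ⁻¹ᵁ W := by
      rw [← Scheme.Hom.comp_preimage, Category.assoc, IsIso.inv_hom_id, Category.comp_id]
    rw [h3, ← morphismRestrict_ι q W]
    infer_instance
  rw [← h1] at h2
  exact Etale.of_comp _ ((τ ⁻¹ᵁ W).ι ≫ τ)

theorem exists_cover {K : Type u} [Field K] [CharZero K] {Y : Scheme.{u}} (f : Y ⟶ Spec (CommRingCat.of K))
    [IsIntegral Y] (hf : RelProj.IsHProjective f) (n : ℕ) (hn : topologicalKrullDim Y = n) (Z : Set Y)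
    (hZ : IsClosed Z) (hZ' : Z ≠ Set.univ) :
    ∃ (q : Y ⟶ CohB1.ProjSpace n K) (d : ℕ) (F : MvPolynomial (Fin (n + 1)) K),
      q ≫ CohB1.ProjSpace.toSpec n K = f ∧ IsFinite q ∧ Surjective q ∧ 0 < d ∧ F.IsHomogeneous d ∧
      (finSuccEquiv K n F).Monic ∧ (finSuccEquiv K n F).natDegree = d ∧
      Etale (q ∣_ Proj.basicOpen (CohB1.polyGrading n K) F) ∧
      ∀ x ∈ Z, q x ∉ Proj.basicOpen (CohB1.polyGrading n K) F := by
  have : Infinite K := Infinite.of_injective (Nat.cast : ℕ → K) Nat.cast_injective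
  obtain ⟨N, i, hi, hif⟩ := hf
  let e := Groth.Agent.CohqB.ProjBC.projSpaceOverIso N K
  have he : e.hom ≫ CohB1.ProjSpace.toSpec N K = CohB1.ProjSpaceOver.toBase N (Spec (CommRingCat.of K)) :=
    Groth.Agent.CohqB.ProjBC.projSpaceOverIso_hom_toSpec N K
  have hι : IsClosedImmersion (i ≫ e.hom) := inferInstance
  obtain ⟨π, hπ, hπ1, hπ2⟩ := K426.LinProj.exists_finite_surjective K Y N (i ≫ e.hom) n hn
  have hπf : π ≫ CohB1.ProjSpace.toSpec n K = f := by rw [hπ, Category.assoc, he, hif]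
  have : IsIntegral (CohB1.ProjSpace n K) := Groth.Agent.Lefpen.H717.ProjIrr.isIntegral_projSpace n K
  obtain ⟨W₁, -, hW₁ne, hW₁⟩ := Groth.Agent.An.H526.T3.exists_open_etale (CohB1.ProjSpace.toSpec n K) π
  have hqZ : IsClosed (π '' Z) := π.isClosedMap Z hZ
  let W : (CohB1.ProjSpace n K).Opens := W₁ ⊓ ⟨(π '' Z)ᶜ, hqZ.isOpen_compl⟩
  have hηW₁ : genericPoint (CohB1.ProjSpace n K) ∈ W₁ :=
    (genericPoint_spec (CohB1.ProjSpace n K)).mem_open_set_iff W₁.2 |>.2 (by simpa using hW₁ne)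
  have hηW : genericPoint (CohB1.ProjSpace n K) ∈ W := ⟨hηW₁, genericPoint_notMem_image π hZ hZ'⟩
  obtain ⟨d, F₁, hF₁, hF₁0, -, hF₁W⟩ := exists_form W _ hηW
  have hF₀ : (X 0 * F₁ : MvPolynomial (Fin (n + 1)) K).IsHomogeneous (1 + d) := (isHomogeneous_X K 0).mul hF₁
  have hF₀0 : (X 0 * F₁ : MvPolynomial (Fin (n + 1)) K) ≠ 0 := mul_ne_zero (X_ne_zero 0) hF₁0
  have hF₀W : Proj.basicOpen (CohB1.polyGrading n K) (X 0 * F₁ : MvPolynomial (Fin (n + 1)) K) ≤ W := by
    rw [Proj.basicOpen_mul]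
    exact inf_le_right.trans hF₁W
  obtain ⟨τ, F, hτ, hτs, hF, hFm, hFd, hτF⟩ := K124.Monic.exists_aut hF₀ hF₀0
  have hs : inv τ ≫ CohB1.ProjSpace.toSpec n K = CohB1.ProjSpace.toSpec n K := by
    rw [IsIso.inv_comp_eq, hτs]
  refine ⟨π ≫ inv τ, 1 + d, F, ?_, inferInstance, inferInstance, by omega, hF, hFm, hFd, ?_, ?_⟩
  · rw [Category.assoc, hs, hπf]
  · exact etale_restrict_comp_inv π τ _ _ hτF.symm (hW₁ _ (hF₀W.trans inf_le_left))
  · intro x hx hxF
    rw [← hτF] at hxF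
    have h1 : π x ∈ Proj.basicOpen (CohB1.polyGrading n K) (X 0 * F₁ : MvPolynomial (Fin (n + 1)) K) := by
      have h2 : τ ((π ≫ inv τ) x) = π x := by
        rw [← Scheme.Hom.comp_apply, Category.assoc, IsIso.inv_hom_id, Category.comp_id]
      rw [← h2]
      exact hxF
    exact (hF₀W h1).2 ⟨x, hx, rfl⟩

end K124.Noeth
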