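import Groth.Agent.Resolve.K124.Tower
import Groth.Agent.Resolve.K124.Noeth
import Groth.Agent.Resolve.K124.Bir
import Groth.Agent.Resolve.K588.HProj
import Groth.Agent.Vanish.K660.Constr
import Groth.Agent.CohqA.ProjDim
import Groth.Agent.Sga5.ProjSmooth
import Groth.Agent.S9692

/-!
# Node A of the resolution project from its three parts

`nodeA_of_tower`: `Tower K n → NodeA K n` in characteristic zero.
-/

set_option autoImplicit false
universe u

open CategoryTheory AlgebraicGeometry CategoryTheory.Limits MvPolynomial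

namespace K124.NodeA

open K84.Iface

theorem etale_comp {X Y Z : Scheme.{u}} (f : X ⟶ Y) (g : Y ⟶ Z) (U : Z.Opens) (hf : Etale (f ∣_ (g ⁻¹ᵁ U)))
    (hg : Etale (g ∣_ U)) : Etale ((f ≫ g) ∣_ U) := by
  rw [morphismRestrict_comp]
  exact MorphismProperty.comp_mem @Etale (f ∣_ (g ⁻¹ᵁ U)) (g ∣_ U) hf hg

theorem isHProjective_toSpec (K : Type u) [Field K] (n : ℕ) :
    RelProj.IsHProjective (CohB1.ProjSpace.toSpec n K) :=
  ⟨n, (Groth.Agent.CohqB.ProjBC.projSpaceOverIso n K).inv, inferInstance,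
    Groth.Agent.CohqB.ProjBC.projSpaceOverIso_inv_toBase n K⟩

theorem dim_projSpace (k : Type u) [Field k] (n : ℕ) : topologicalKrullDim (CohB1.ProjSpace n k) = n := by
  refine le_antisymm (Groth.Agent.CohqA.ProjDim.topologicalKrullDim_le k n) ?_
  have h1 : topologicalKrullDim (Spec (CommRingCat.of (MvPolynomial (Fin n) k))) = n := by
    have h2 := PrimeSpectrum.topologicalKrullDim_eq_ringKrullDim (R := MvPolynomial (Fin n) k)
    refine h2.trans ?_
    simp [MvPolynomial.ringKrullDim_of_isNoetherianRing]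
  rw [← h1]
  exact (Groth.Agent.Sga5.ProjSmooth.chart n k 0).isOpenEmbedding.isInducing.topologicalKrullDim_le

theorem isAffineHom_ι {K : Type u} [Field K] {n d : ℕ} {F : MvPolynomial (Fin (n + 1)) K} (hF : F.IsHomogeneous d)
    (hd : 0 < d) : IsAffineHom (Scheme.Opens.ι (X := CohB1.ProjSpace n K) (Proj.basicOpen (CohB1.polyGrading n K) F)) := by
  let W : (CohB1.ProjSpace n K).Opens := Proj.basicOpen (CohB1.polyGrading n K) F
  have hW : IsAffineOpen W := Proj.isAffineOpen_basicOpen (CohB1.polyGrading n K) F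
    ((mem_homogeneousSubmodule _ _).mpr hF) hd
  have : IsAffine (W : Scheme.{u}) := hW
  have : IsAffineHom (W.ι ≫ CohB1.ProjSpace.toSpec n K) := isAffineHom_of_isAffine _
  have : IsSeparated (CohB1.ProjSpace.toSpec n K) :=
    (K588.HProj.isProper (isHProjective_toSpec K n)).toIsSeparated
  exact IsAffineHom.of_comp W.ι (CohB1.ProjSpace.toSpec n K)

theorem nodeA_of_tower {K : Type u} [Field K] [CharZero K] (n : ℕ) (hT : K124.Tower.Tower K n) : NodeA K n := by
  intro X p hX hp hdim Z hZ hZ'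
  obtain ⟨q₀, d, F, hq₀, hfin, hsurj, hd, hF, hFm, hFd, het, hZF⟩ :=
    K124.Noeth.exists_cover p hp (n + 1) hdim Z hZ hZ'
  obtain ⟨P₁, P, b, q, H, N, s, U, hP₁, hb, hbir, hP, hq, hqp, hs, hsinj, hHq, hHfin, hHsurj, hU, hHet, hHF⟩ :=
    hT d F hF hFm hFd
  have hpp := K588.HProj.isProper hp
  have : IsIntegral (CohB1.ProjSpace (n + 1) K) := Groth.Agent.Lefpen.H717.ProjIrr.isIntegral_projSpace (n + 1) K
  have hYint : IsIntegral (CohB1.ProjSpace n K) := Groth.Agent.Lefpen.H717.ProjIrr.isIntegral_projSpace n K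
  let W : (CohB1.ProjSpace (n + 1) K).Opens := Proj.basicOpen (CohB1.polyGrading (n + 1) K) F
  have hWaff : IsAffineHom W.ι := isAffineHom_ι hF hd
  have hWet : Etale (q₀ ∣_ W) := het
  obtain ⟨B₀, hB₀, hB₀iso⟩ := hbir
  obtain ⟨hbη, -⟩ := K415.Birat.generic_of_isIso_restrict b B₀ hB₀ hB₀iso
  have hq₀η : q₀ (genericPoint X) = genericPoint _ := K124.Noeth.map_genericPoint q₀
  let V : P₁.Opens := b ⁻¹ᵁ W
  have hVaff : IsAffineHom V.ι := MorphismProperty.of_isPullback (isPullback_morphismRestrict b W) hWaff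
  have hηW : genericPoint (CohB1.ProjSpace (n + 1) K) ∈ W := by
    have hFn : F ≠ 0 := by
      intro h0
      rw [h0, map_zero] at hFm
      exact Polynomial.not_monic_zero hFm
    have hne : (W : Set (CohB1.ProjSpace (n + 1) K)).Nonempty :=
      ⟨Groth.Agent.CohqA.ProjDim.gpt K (n + 1), fun h0 => hFn h0⟩
    exact (genericPoint_spec (CohB1.ProjSpace (n + 1) K)).mem_open_set_iff W.2 |>.2 (by simpa using hne)
  have hηV : genericPoint P₁ ∈ V := by
    change b (genericPoint P₁) ∈ W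
    rw [hbη]; exact hηW
  obtain ⟨Y, g, h, w, hYint', hYn, hgfin, hgs, hget, hgη, hhη, hmono⟩ :=
    K660.Constr.exists_cover (b ≫ CohB1.ProjSpace.toSpec (n + 1) K) q₀ b W V hηV le_rfl hbη hq₀η
  -- projectivity
  have hqy : RelProj.IsHProjective (q ≫ CohB1.ProjSpace.toSpec n K) :=
    Groth.Agent.S9692.result q _ hqp (isHProjective_toSpec K n)
  have hproj : RelProj.IsHProjective ((g ≫ H) ≫ q ≫ CohB1.ProjSpace.toSpec n K) :=
    K588.HProj.comp_finite hqy (g ≫ H)
  have hhp : (g ≫ H) ≫ q ≫ CohB1.ProjSpace.toSpec n K = h ≫ p := by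
    rw [← hq₀, ← Category.assoc h q₀, ← w, Category.assoc, Category.assoc, hHq]
  rw [hhp] at hproj
  have hhpp : IsProper (h ≫ p) := K588.HProj.isProper hproj
  have hhprop : IsProper h := IsProper.of_comp h p
  refine ⟨CohB1.ProjSpace n K, P, Y, CohB1.ProjSpace.toSpec n K, q, N, s, h, g ≫ H, U, hYint, dim_projSpace K n,
    isHProjective_toSpec K n, hP, hq, hqp, hs, hsinj, hYint', hYn, hproj, ?_, hhp, inferInstance, inferInstance, hU,
    ?_, ?_⟩
  · exact K124.Bir.isBir_of_mono b q₀ g h w ⟨B₀, hB₀, hB₀iso⟩ hq₀η hgη hhη hmono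
  · refine etale_comp g H U (Groth.Agent.An.H526.T3.etale_morphismRestrict_of_le g ?_ hget) hHet
    intro x hx
    by_contra hxV
    have h1 := hHF x hxV
    have h2 : H x ∈ (U : Set P) := hx
    rw [hU] at h2
    exact h2 h1
  · intro y hy
    have h1 : b (g y) = q₀ (h y) := by
      rw [← Scheme.Hom.comp_apply, w, Scheme.Hom.comp_apply]
    have h2 := hZF (h y) hy
    rw [← h1] at h2
    exact hHF (g y) h2

end K124.NodeA
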