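import Groth.Agent.Resolve.K124.NodeA
import Groth.Agent.Resolve.K138.TowerThm

/-!
# Node A of the resolution project
-/

set_option autoImplicit false
universe u

open CategoryTheory AlgebraicGeometry

namespace K124.NodeAThm

/-- **Node A** -/
theorem nodeA {K : Type u} [Field K] [CharZero K] (n : ℕ) : K84.Iface.NodeA K n :=
  K124.NodeA.nodeA_of_tower n (K138.TowerThm.tower n)

end K124.NodeAThm
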