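import Groth.Agent.Resolve.K84.Iface
import Groth.Prelude.Def_CohB1
import Mathlib.Algebra.MvPolynomial.Equiv
import Mathlib.RingTheory.MvPolynomial.Homogeneous
import Mathlib.AlgebraicGeometry.ProjectiveSpectrum.Basic

/-!
# S19921 project, node A: the interface between the three parts

`Tower K n`: for `F` homogeneous and monic in `X 0` in `n + 2` variables there are a smooth projective relative curve
`q : P ⟶ P^n` (it will be `P(O ⊕ O(e))`) with distinct sections `s j`, `b : P₁ ⟶ P^(n+1)` (the blow-up of the point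
`[1:0:…:0]`), and a finite surjective `H : P₁ ⟶ P` étale off the sections such that `b⁻¹ V(F)` lies over the sections.
-/

universe u

open CategoryTheory AlgebraicGeometry

namespace K124.Tower

/-- nodes (1') + (2) + (2') -/
def Tower (K : Type u) [Field K] (n : ℕ) : Prop :=
  ∀ (d : ℕ) (F : MvPolynomial (Fin (n + 1 + 1)) K), F.IsHomogeneous d →
    (MvPolynomial.finSuccEquiv K (n + 1) F).Monic → (MvPolynomial.finSuccEquiv K (n + 1) F).natDegree = d →
    ∃ (P₁ P : Scheme.{u}) (b : P₁ ⟶ CohB1.ProjSpace (n + 1) K) (q : P ⟶ CohB1.ProjSpace n K) (H : P₁ ⟶ P)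
      (N : ℕ) (s : Fin N → (CohB1.ProjSpace n K ⟶ P)) (U : P.Opens),
      IsIntegral P₁ ∧ Smooth (b ≫ CohB1.ProjSpace.toSpec (n + 1) K) ∧ K84.Iface.IsBir b ∧
      IsIntegral P ∧ SmoothOfRelativeDimension 1 q ∧ RelProj.IsHProjective q ∧
      (∀ j, s j ≫ q = 𝟙 _) ∧ Function.Injective s ∧
      H ≫ q ≫ CohB1.ProjSpace.toSpec n K = b ≫ CohB1.ProjSpace.toSpec (n + 1) K ∧
      IsFinite H ∧ Surjective H ∧
      (U : Set P) = (K84.Iface.img s)ᶜ ∧ Etale (H ∣_ U) ∧
      ∀ x : P₁, b x ∉ Proj.basicOpen (CohB1.polyGrading (n + 1) K) F → H x ∈ K84.Iface.img s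

end K124.Tower
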